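import Mathlib

/-!
The monomial Sylow subgroup of a linear group of prime degree and its overlaps with its conjugates.
-/

set_option autoImplicit false
set_option linter.unusedSectionVars false

namespace CfsgLib.MonomialSylow

open Matrix Polynomial

variable {F : Type*} [Field F] [Fintype F] {p : ℕ} [hp : Fact p.Prime]

/-- A monomial matrix over the cyclic shifts. -/
def mon (d : Fin p → F) (k : Fin p) : Matrix (Fin p) (Fin p) F := fun i j => if j = i + k then d i else 0

theorem mon_mul (d e : Fin p → F) (k l : Fin p) :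
    mon d k * mon e l = mon (fun i => d i * e (i + k)) (k + l) := by
  ext i j
  rw [Matrix.mul_apply, Finset.sum_eq_single (i + k)]
  · simp only [mon, if_true, add_assoc, mul_ite, mul_zero]
  · intro b _ hb
    simp [mon, hb]
  · simp

theorem mon_one : mon (fun _ : Fin p => (1 : F)) 0 = 1 := by
  ext i j
  simp [mon, Matrix.one_apply, eq_comm]

theorem mon_inj {d e : Fin p → F} {k l : Fin p} (hd : ∀ i, d i ≠ 0) (h : mon d k = mon e l) : k = l ∧ d = e := by
  have h0 := congrFun (congrFun h 0) (0 + k)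
  simp only [mon, if_true] at h0
  have hk : k = l := by
    by_contra hne
    rw [if_neg (fun e => hne (add_left_cancel e))] at h0
    exact hd 0 h0
  refine ⟨hk, funext fun i => ?_⟩
  have h1 := congrFun (congrFun h i) (i + k)
  simpa [mon, hk] using h1

variable (F p) in
/-- The monomial matrices whose entries are `p`-th roots of unity. -/
def monGroup : Subgroup (GL (Fin p) F) where
  carrier := {g | ∃ d k, (g : Matrix (Fin p) (Fin p) F) = mon d k ∧ ∀ i, d i ^ p = 1}
  one_mem' := ⟨_, _, mon_one.symm, fun _ => one_pow _⟩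
  mul_mem' := by
    rintro a b ⟨d, k, ha, hd⟩ ⟨e, l, hb, he⟩
    exact ⟨_, _, by rw [Units.val_mul, ha, hb, mon_mul], fun i => by rw [mul_pow, hd, he, mul_one]⟩
  inv_mem' := by
    rintro a ⟨d, k, ha, hd⟩
    refine ⟨fun i => (d (i + -k))⁻¹, -k, Units.inv_eq_of_mul_eq_one_left ?_, fun i => by rw [inv_pow, hd, inv_one]⟩
    rw [ha, mon_mul, neg_add_cancel, ← mon_one]
    congr 1
    funext i
    exact inv_mul_cancel₀ (fun h => by simpa [h, hp.out.ne_zero] using hd (i + -k))

theorem ne_zero_of_pow {d : F} (h : d ^ p = 1) : d ≠ 0 := fun e => by simp [e, hp.out.ne_zero] at h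

theorem exists_unit (d : Fin p → F) (k : Fin p) (hd : ∀ i, d i ≠ 0) :
    ∃ g : GL (Fin p) F, (g : Matrix (Fin p) (Fin p) F) = mon d k := by
  refine ⟨⟨mon d k, mon (fun i => (d (i + -k))⁻¹) (-k), ?_, ?_⟩, rfl⟩
  · rw [mon_mul, add_neg_cancel, ← mon_one]
    congr 1
    funext i
    rw [add_neg_cancel_right, mul_inv_cancel₀ (hd i)]
  · rw [mon_mul, neg_add_cancel, ← mon_one]
    congr 1
    funext i
    exact inv_mul_cancel₀ (hd _)

/-- The number of `p`-th roots of unity. -/
theorem card_roots (h1 : p ∣ Fintype.card F - 1) : Nat.card {x : F // x ^ p = 1} = p := by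
  classical
  obtain ⟨g, hg⟩ := IsCyclic.exists_generator (α := Fˣ)
  have hord : orderOf g = Fintype.card F - 1 := by
    rw [orderOf_eq_card_of_forall_mem_zpowers hg, Nat.card_eq_fintype_card, Fintype.card_units]
  obtain ⟨m, hm⟩ := h1
  have hω : IsPrimitiveRoot ((g ^ m : Fˣ) : F) p := by
    have : orderOf ((g ^ m : Fˣ) : F) = p := by
      rw [orderOf_units, orderOf_pow' g (by rintro rfl; simp at hm; have := Fintype.one_lt_card (α := F); omega),
        hord, hm, Nat.gcd_mul_left_left, Nat.mul_div_cancel _ (Nat.pos_of_ne_zero fun h => by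
          subst h; simp at hm; have := Fintype.one_lt_card (α := F); omega)]
    exact this ▸ IsPrimitiveRoot.orderOf _
  calc Nat.card {x : F // x ^ p = 1} = Nat.card (Polynomial.nthRootsFinset p (1 : F)) :=
        Nat.card_congr (Equiv.subtypeEquivRight fun x => (Polynomial.mem_nthRootsFinset hp.out.pos (1:F)).symm)
    _ = p := by rw [Nat.card_eq_fintype_card, Fintype.card_coe, hω.card_nthRootsFinset]

theorem card_monGroup (h1 : p ∣ Fintype.card F - 1) : Nat.card (monGroup F p) = p ^ (p + 1) := by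
  classical
  have hu : ∀ x : (Fin p → {x : F // x ^ p = 1}) × Fin p, ∃ g : GL (Fin p) F,
      (g : Matrix (Fin p) (Fin p) F) = mon (fun i => (x.1 i).1) x.2 := fun x =>
    exists_unit _ _ fun i => ne_zero_of_pow (x.1 i).2
  choose g hg using hu
  let φ : (Fin p → {x : F // x ^ p = 1}) × Fin p → monGroup F p := fun x => ⟨g x, _, _, hg x, fun i => (x.1 i).2⟩
  have hφ : Function.Bijective φ := by
    refine ⟨fun x y h => ?_, fun ⟨a, d, k, ha, hd⟩ => ⟨(fun i => ⟨d i, hd i⟩, k), Subtype.ext (Units.ext ((hg _).trans ha.symm))⟩⟩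
    have h' : mon (fun i => (x.1 i).1) x.2 = mon (fun i => (y.1 i).1) y.2 := by
      rw [← hg, ← hg, show g x = g y from congrArg Subtype.val h]
    obtain ⟨hk, hd⟩ := mon_inj (fun i => ne_zero_of_pow (x.1 i).2) h'
    exact Prod.ext (funext fun i => Subtype.ext (congrFun hd i)) hk
  rw [← Nat.card_eq_of_bijective φ hφ, Nat.card_prod, Nat.card_fun, card_roots h1, Nat.card_fin, pow_succ]

theorem factorization_pow_sub (h1 : p ∣ Fintype.card F - 1) (h2 : ¬ p ^ 2 ∣ Fintype.card F - 1) (hp2 : p ≠ 2)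
    {i : ℕ} (hi : i ≠ 0) (hip : i ≤ p) :
    (Fintype.card F ^ i - 1).factorization p = if i = p then 2 else 1 := by
  set q := Fintype.card F
  have hq : 1 < q := Fintype.one_lt_card
  have hodd : Odd p := hp.out.odd_of_ne_two hp2
  haveI := hp
  have hpx : ¬ p ∣ q := fun h => by
    have := Nat.dvd_sub h h1
    rw [show q - (q - 1) = 1 by omega] at this
    exact hp.out.not_dvd_one this
  have h := Nat.emultiplicity_pow_sub_pow hp.out hodd h1 hpx i
  have hne : q ^ i - 1 ≠ 0 := by
    have := Nat.one_lt_pow hi hq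
    omega
  have hq1 : q - 1 ≠ 0 := by omega
  rw [one_pow] at h
  have hfin : ∀ n : ℕ, n ≠ 0 → emultiplicity p n = (n.factorization p : ℕ∞) := fun n hn => by
    rw [Nat.factorization_def n hp.out, padicValNat_eq_emultiplicity hn]
  rw [hfin _ hne, hfin _ hq1, hfin _ hi, ← Nat.cast_add, Nat.cast_inj] at h
  rw [h]
  have hv1 : (q - 1).factorization p = 1 := by
    have ha := (hp.out.dvd_iff_one_le_factorization hq1).1 h1
    have hb : ¬ 2 ≤ (q - 1).factorization p := fun hh => h2 ((hp.out.pow_dvd_iff_le_factorization hq1).2 hh)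
    omega
  rw [hv1]
  split_ifs with hh
  · subst hh; rw [hp.out.factorization_self]
  · rw [Nat.factorization_eq_zero_of_not_dvd fun hd => hh (le_antisymm hip (Nat.le_of_dvd (Nat.pos_of_ne_zero hi) hd))]

/-- The order of a Sylow subgroup. -/
theorem factorization_card_gl (h1 : p ∣ Fintype.card F - 1) (h2 : ¬ p ^ 2 ∣ Fintype.card F - 1) (hp2 : p ≠ 2) :
    (Nat.card (GL (Fin p) F)).factorization p = p + 1 := by
  classical
  set q := Fintype.card F
  have hq : 1 < q := Fintype.one_lt_card
  have hpx : ¬ p ∣ q := fun h => by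
    have := Nat.dvd_sub h h1
    rw [show q - (q - 1) = 1 by omega] at this
    exact hp.out.not_dvd_one this
  rw [Matrix.card_GL_field, Nat.factorization_prod_apply fun i _ => by
    exact Nat.sub_ne_zero_of_lt (Nat.pow_lt_pow_right hq i.2)]
  have hterm : ∀ i : Fin p, (q ^ p - q ^ (i : ℕ)).factorization p = if i = 0 then 2 else 1 := by
    intro i
    have hi := i.2
    have he : q ^ p - q ^ (i : ℕ) = q ^ (i : ℕ) * (q ^ (p - i) - 1) := by
      rw [Nat.mul_sub, mul_one, ← pow_add, Nat.add_sub_cancel' hi.le]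
    have hne : q ^ (p - (i : ℕ)) - 1 ≠ 0 := by
      have := Nat.one_lt_pow (show p - (i : ℕ) ≠ 0 by omega) hq
      omega
    rw [he, Nat.factorization_mul (pow_ne_zero _ (by omega)) hne, Finsupp.add_apply, Nat.factorization_pow,
      Finsupp.smul_apply, Nat.factorization_eq_zero_of_not_dvd hpx, smul_zero, zero_add,
      factorization_pow_sub h1 h2 hp2 (by omega) (Nat.sub_le _ _)]
    refine if_congr ⟨fun h => Fin.ext ?_, fun h => by simp [h]⟩ rfl rfl
    have h0 : ((0 : Fin p) : ℕ) = 0 := rfl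
    rw [h0]; omega
  rw [Finset.sum_congr rfl fun i _ => hterm i, ← Finset.add_sum_erase _ _ (Finset.mem_univ (0 : Fin p)), if_pos rfl,
    Finset.sum_congr rfl fun i hi => if_neg (Finset.ne_of_mem_erase hi), Finset.sum_const, smul_eq_mul, mul_one,
    Finset.card_erase_of_mem (Finset.mem_univ _), Finset.card_univ, Fintype.card_fin]
  have := hp.out.two_le
  omega

theorem two_nsmul_ne (hp2 : p ≠ 2) {k : Fin p} (hk : k ≠ 0) : k + k ≠ 0 := by
  intro h
  have h' : ((k : ℕ) + k) % p = 0 := by
    have := congrArg Fin.val h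
    rwa [Fin.val_add] at this
  obtain ⟨c, hc⟩ := Nat.dvd_of_mod_eq_zero h'
  have hkp := k.2
  have hk0 : (k : ℕ) ≠ 0 := fun e => hk (Fin.ext (by simp [e]))
  have : p ∣ 2 * (k : ℕ) := ⟨c, by omega⟩
  rcases hp.out.dvd_mul.1 this with h2 | h2
  · exact hp2 ((Nat.prime_dvd_prime_iff_eq hp.out Nat.prime_two).1 h2)
  · exact absurd (Nat.le_of_dvd (Nat.pos_of_ne_zero hk0) h2) (by omega)

/-- A normalising element does not mix coordinates. -/
theorem not_normalizes (hp2 : p ≠ 2) {ω : F} (hω : ω ^ p = 1) (hω1 : ω ≠ 1) {z : GL (Fin p) F}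
    (hz : ∀ g ∈ monGroup F p, z * g * z⁻¹ ∈ monGroup F p) {a b i : Fin p} (hab : a ≠ b)
    (ha : (z : Matrix (Fin p) (Fin p) F) i a ≠ 0) (hb : (z : Matrix (Fin p) (Fin p) F) i b ≠ 0) : False := by
  classical
  obtain ⟨g, hg⟩ := exists_unit (fun j => if j = a then ω else 1) 0 (fun j => by
    split_ifs
    · exact ne_zero_of_pow hω
    · exact one_ne_zero)
  obtain ⟨w, k, hw, hwp⟩ := hz g ⟨_, _, hg, fun j => by split_ifs <;> simp [hω]⟩
  have h := congrArg Units.val (show z * g * z⁻¹ * z = z * g by group)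
  rw [Units.val_mul, hw, Units.val_mul, hg] at h
  -- compare entries
  have hR : ∀ r j, ((z : Matrix (Fin p) (Fin p) F) * mon (fun j => if j = a then ω else 1) 0) r j =
      (z : Matrix (Fin p) (Fin p) F) r j * (if j = a then ω else 1) := fun r j => by
    rw [Matrix.mul_apply, Finset.sum_eq_single j]
    · simp [mon]
    · intro c _ hc
      simp [mon, Ne.symm hc]
    · simp
  have hL : ∀ r j, (mon w k * (z : Matrix (Fin p) (Fin p) F)) r j =
      w r * (z : Matrix (Fin p) (Fin p) F) (r + k) j := fun r j => by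
    rw [Matrix.mul_apply, Finset.sum_eq_single (r + k)]
    · simp [mon]
    · intro c _ hc
      simp [mon, hc]
    · simp
  have key : ∀ r j, w r * (z : Matrix (Fin p) (Fin p) F) (r + k) j =
      (z : Matrix (Fin p) (Fin p) F) r j * (if j = a then ω else 1) := fun r j => by
    rw [← hL, ← hR, h]
  by_cases hk : k = 0
  · subst hk
    have e1 := key i a
    have e2 := key i b
    rw [add_zero, if_pos rfl, mul_comm _ ω] at e1
    rw [add_zero, if_neg hab.symm, mul_one] at e2
    have w1 : w i = ω := mul_right_cancel₀ ha e1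
    have w2 : w i = 1 := mul_right_cancel₀ hb (e2.trans (one_mul _).symm)
    exact hω1 (w1.symm.trans w2)
  · -- two rows of `z` would be proportional away from one column
    have hcol : ∀ j, j ≠ a → ∀ r, (z : Matrix (Fin p) (Fin p) F) r j = w r * (z : Matrix (Fin p) (Fin p) F) (r + k) j :=
      fun j hj r => by rw [key, if_neg hj, mul_one]
    obtain ⟨j₁, j₂, h1, h2, h12⟩ : ∃ j₁ j₂ : Fin p, j₁ ≠ a ∧ j₂ ≠ a ∧ j₁ ≠ j₂ :=
      ⟨a + k, a + (k + k), fun e => hk (add_eq_left.1 e), fun e => two_nsmul_ne hp2 hk (add_eq_left.1 e),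
        fun e => hk (by simpa using (add_left_cancel e).symm)⟩
    -- the fixed vectors of a cycle form a line
    have hprop : ∀ (n : ℕ) (j : Fin p), j ≠ a →
        (z : Matrix (Fin p) (Fin p) F) 0 j = (∏ s ∈ Finset.range n, w (s • k)) * (z : Matrix (Fin p) (Fin p) F) (n • k) j := by
      intro n j hj
      induction n with
      | zero => simp
      | succ n ih => rw [ih, Finset.prod_range_succ, hcol j hj (n • k), ← succ_nsmul, mul_assoc]
    have hall : ∀ r : Fin p, ∃ c : F, c ≠ 0 ∧ ∀ j, j ≠ a →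
        (z : Matrix (Fin p) (Fin p) F) 0 j = c * (z : Matrix (Fin p) (Fin p) F) r j := by
      intro r
      obtain ⟨n, hn⟩ : ∃ n : ℕ, n • k = r := by
        have hgen : AddSubgroup.zmultiples k = ⊤ := by
          refine AddSubgroup.eq_top_of_card_eq _ ?_
          rw [Nat.card_zmultiples]
          have hd : addOrderOf k ∣ p := by
            have := addOrderOf_dvd_natCard k
            rwa [Nat.card_fin] at this
          rw [Nat.card_fin]
          exact (hp.out.eq_one_or_self_of_dvd _ hd).resolve_left fun e => hk (AddMonoid.addOrderOf_eq_one_iff.1 e)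
        have : r ∈ AddSubgroup.zmultiples k := hgen ▸ AddSubgroup.mem_top r
        exact AddSubmonoid.mem_multiples_iff _ _ |>.1 (mem_multiples_iff_mem_zmultiples.2 this)
      exact ⟨_, Finset.prod_ne_zero_iff.2 fun s _ => ne_zero_of_pow (hwp _), fun j hj => hn ▸ hprop n j hj⟩
    choose c hc0 hc using hall
    -- a vector killed by `z`
    let v : Fin p → F := Pi.single j₁ ((z : Matrix (Fin p) (Fin p) F) 0 j₂) + Pi.single j₂ (-(z : Matrix (Fin p) (Fin p) F) 0 j₁)
    have hv : (z : Matrix (Fin p) (Fin p) F) *ᵥ v = 0 := by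
      funext r
      simp only [v, Matrix.mulVec_add, Pi.add_apply, Matrix.mulVec_single, Pi.zero_apply, Pi.smul_apply,
        MulOpposite.smul_eq_mul_unop, MulOpposite.unop_op, Matrix.col_apply]
      rw [hc r j₁ h1, hc r j₂ h2]
      ring
    have hinj := Matrix.mulVec_injective_of_isUnit ⟨z, rfl⟩ (hv.trans (Matrix.mulVec_zero _).symm)
    have e2 := congrFun hinj j₁
    simp [v, h12] at e2
    have hker : (z : Matrix (Fin p) (Fin p) F) *ᵥ Pi.single j₂ 1 = 0 := by
      funext r
      have := hc r j₂ h2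
      rw [e2] at this
      simp only [Matrix.mulVec_single, Pi.smul_apply, MulOpposite.smul_eq_mul_unop, MulOpposite.unop_op,
        Matrix.col_apply, mul_one, Pi.zero_apply]
      exact (mul_eq_zero.1 this.symm).resolve_left (hc0 r)
    have := congrFun (Matrix.mulVec_injective_of_isUnit ⟨z, rfl⟩ (hker.trans (Matrix.mulVec_zero _).symm)) j₂
    simp at this

theorem exists_quadratic (F : Type*) [Field F] [Fintype F] :
    ∃ b c : F, ∀ t : F, t ^ 2 + b * t + c ≠ 0 := by
  classical
  by_contra! h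
  have : Function.Surjective (fun x : F × F => (x.1 + x.2, x.1 * x.2)) := by
    rintro ⟨s, m⟩
    obtain ⟨t, ht⟩ := h (-s) m
    exact ⟨(t, s - t), Prod.ext (by simp) (by simp only; linear_combination -ht)⟩
  have hinj := Finite.injective_iff_surjective.2 this
  have := @hinj (0, 1) (1, 0) (Prod.ext (by simp) (by simp))
  simp at this

theorem prod_mon_pow (d : Fin p → F) (k : Fin p) (n : ℕ) :
    mon d k ^ n = mon (fun i => ∏ s ∈ Finset.range n, d (i + s • k)) (n • k) := by
  induction n with
  | zero => simp [← mon_one]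
  | succ n ih => rw [pow_succ, ih, mon_mul, succ_nsmul]; simp only [← Finset.prod_range_succ]

/-- A quadratic without roots is invertible at a non-diagonal element. -/
theorem exists_centralizing (h1 : p ∣ Fintype.card F - 1) (h2 : ¬ p ^ 2 ∣ Fintype.card F - 1) (hp2 : p ≠ 2)
    {x : GL (Fin p) F} {d : Fin p → F} {k : Fin p} (hx : (x : Matrix (Fin p) (Fin p) F) = mon d k)
    (hd : ∀ i, d i ^ p = 1) (hk : k ≠ 0) :
    ∃ z : GL (Fin p) F, Commute z x ∧ ∃ a b : Fin p, a ≠ b ∧
      (z : Matrix (Fin p) (Fin p) F) 0 a ≠ 0 ∧ (z : Matrix (Fin p) (Fin p) F) 0 b ≠ 0 := by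
  classical
  obtain ⟨b, c, hbc⟩ := exists_quadratic F
  set f : F[X] := X ^ 2 + C b * X + C c with hf
  have hc0 : c ≠ 0 := fun h => hbc 0 (by simp [h])
  have hnd : f.natDegree = 2 := by rw [hf]; compute_degree!
  have hirr : Irreducible f := by
    rw [Polynomial.irreducible_iff_roots_eq_zero_of_degree_le_three (by omega) (by omega)]
    refine Multiset.eq_zero_iff_forall_notMem.2 fun t ht => hbc t ?_
    have := (Polynomial.mem_roots'.1 ht).2
    simpa [hf, IsRoot.def] using this
  -- the scalar power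
  set X0 := (x : Matrix (Fin p) (Fin p) F)
  have hpk : p • k = 0 := by
    have : addOrderOf k ∣ p := by
      have := addOrderOf_dvd_natCard k
      rwa [Nat.card_fin] at this
    exact addOrderOf_dvd_iff_nsmul_eq_zero.1 this
  have hpow : X0 ^ (p * p) = 1 := by
    rw [pow_mul, hx, prod_mon_pow, hpk, prod_mon_pow, nsmul_zero, ← mon_one]
    congr 1
    funext i
    simp only [nsmul_zero, add_zero, Finset.prod_const, Finset.card_range]
    rw [← Finset.prod_pow]
    exact Finset.prod_eq_one fun s _ => hd _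
  have hcop : IsCoprime f (X ^ (p * p) - 1 : F[X]) := by
    by_cases h : f ∣ X ^ (p * p) - 1
    swap
    · exact hirr.coprime_iff_not_dvd.2 h
    exfalso
    haveI : Fact (Irreducible f) := ⟨hirr⟩
    let θ : AdjoinRoot f := AdjoinRoot.root f
    have hθ : θ ^ (p * p) = 1 := by
      obtain ⟨g, hg⟩ := h
      have := congrArg (AdjoinRoot.mk f) hg
      rw [map_sub, map_pow, map_one, AdjoinRoot.mk_X, map_mul, AdjoinRoot.mk_self, zero_mul, sub_eq_zero] at this
      exact this
    haveI : Module.Finite F (AdjoinRoot f) := (AdjoinRoot.powerBasis hirr.ne_zero).finite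
    haveI : Finite (AdjoinRoot f) := Module.finite_of_finite F
    letI := Fintype.ofFinite (AdjoinRoot f)
    have hcard : Fintype.card (AdjoinRoot f) = Fintype.card F ^ 2 := by
      rw [Module.card_eq_pow_finrank (K := F) (V := AdjoinRoot f),
        (AdjoinRoot.powerBasis hirr.ne_zero).finrank, AdjoinRoot.powerBasis_dim, hnd]
    have hθ0 : θ ≠ 0 := fun h0 => by simp [h0, hp.out.ne_zero] at hθ
    have hθq := FiniteField.pow_card_sub_one_eq_one θ hθ0
    rw [hcard] at hθq
    have hgcd : Nat.gcd (p * p) (Fintype.card F ^ 2 - 1) ∣ p := by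
      obtain ⟨j, hj, he⟩ := (Nat.dvd_prime_pow hp.out).1
        (show Nat.gcd (p * p) (Fintype.card F ^ 2 - 1) ∣ p ^ 2 from (pow_two p).symm ▸ Nat.gcd_dvd_left _ _)
      rw [he]
      rcases Nat.lt_or_ge j 2 with h3 | h3
      · calc p ^ j ∣ p ^ 1 := Nat.pow_dvd_pow p (by omega)
          _ = p := pow_one p
      · exfalso
        obtain rfl : j = 2 := by omega
        have h4 : p ^ 2 ∣ Fintype.card F ^ 2 - 1 := he ▸ Nat.gcd_dvd_right _ _
        have hne : Fintype.card F ^ 2 - 1 ≠ 0 := by
          have := Nat.one_lt_pow (show 2 ≠ 0 by norm_num) (Fintype.one_lt_card (α := F))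
          omega
        have h5 := (hp.out.pow_dvd_iff_le_factorization hne).1 h4
        rw [factorization_pow_sub h1 h2 hp2 (by norm_num) hp.out.two_le, if_neg (fun e => hp2 e.symm)] at h5
        omega
    have hθp : θ ^ (Fintype.card F - 1) = 1 := by
      have := pow_gcd_eq_one.2 ⟨hθ, hθq⟩
      exact orderOf_dvd_iff_pow_eq_one.1 ((orderOf_dvd_of_pow_eq_one this).trans (hgcd.trans h1))
    have hdiv : f ∣ X ^ Fintype.card F - X := by
      rw [← AdjoinRoot.mk_eq_zero, map_sub, map_pow, AdjoinRoot.mk_X, sub_eq_zero]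
      show θ ^ Fintype.card F = θ
      conv_lhs => rw [show Fintype.card F = Fintype.card F - 1 + 1 by
        have := Fintype.one_lt_card (α := F); omega]
      rw [pow_succ, hθp, one_mul]
    have hne : (X ^ Fintype.card F - X : F[X]) ≠ 0 := FiniteField.X_pow_card_sub_X_ne_zero F Fintype.one_lt_card
    have hsplit : Splits (X ^ Fintype.card F - X : F[X]) := by
      rw [Polynomial.splits_iff_card_roots, FiniteField.roots_X_pow_card_sub_X,
        FiniteField.X_pow_card_sub_X_natDegree_eq F Fintype.one_lt_card]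
      rfl
    have := Polynomial.Splits.natDegree_eq_one_of_irreducible (hsplit.of_dvd hne hdiv) hirr
    omega
  obtain ⟨s, t, hst⟩ := hcop
  have hinv : Polynomial.aeval X0 s * Polynomial.aeval X0 f = 1 := by
    have := congrArg (Polynomial.aeval X0) hst
    simpa [hpow] using this
  have hinv' : Polynomial.aeval X0 f * Polynomial.aeval X0 s = 1 := mul_eq_one_comm.1 hinv
  refine ⟨⟨_, _, hinv', hinv⟩, Units.ext ?_, 0, k + k, (two_nsmul_ne hp2 hk).symm, ?_, ?_⟩
  · show Polynomial.aeval X0 f * X0 = X0 * Polynomial.aeval X0 f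
    have e1 : Polynomial.aeval X0 (f * X) = Polynomial.aeval X0 f * X0 := by rw [map_mul, Polynomial.aeval_X]
    have e2 : Polynomial.aeval X0 (X * f) = X0 * Polynomial.aeval X0 f := by rw [map_mul, Polynomial.aeval_X]
    rw [← e1, ← e2, mul_comm]
  all_goals
    have he : Polynomial.aeval X0 f = mon d k * mon d k + b • mon d k + c • (1 : Matrix (Fin p) (Fin p) F) := by
      simp [hf, sq, Algebra.smul_def, ← hx, X0]
    show Polynomial.aeval X0 f 0 _ ≠ 0
    rw [he, mon_mul]
  · simp [mon, Matrix.one_apply, hk.symm, (two_nsmul_ne hp2 hk).symm, hc0]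
  · simp [mon, Matrix.one_apply, hk, two_nsmul_ne hp2 hk, (two_nsmul_ne hp2 hk).symm,
      ne_zero_of_pow (hd 0), ne_zero_of_pow (hd k)]

theorem conj_vandermonde {d : Fin p → F} (hd : ∀ i, d i ^ p = 1) (hinj : Function.Injective d) :
    ∃ V C' X' : GL (Fin p) F, C' ∈ monGroup F p ∧ (X' : Matrix (Fin p) (Fin p) F) = mon d 0 ∧
      (C' : Matrix (Fin p) (Fin p) F) = mon (fun _ => 1) 1 ∧ X' = V⁻¹ * C' * V := by
  classical
  haveI : Fact (1 < p) := ⟨hp.out.one_lt⟩
  have hdet : (Matrix.vandermonde d).transpose.det ≠ 0 := by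
    rw [Matrix.det_transpose, Matrix.det_vandermonde_ne_zero_iff]; exact hinj
  let V : GL (Fin p) F := Matrix.GeneralLinearGroup.mkOfDetNeZero _ hdet
  obtain ⟨C', hC⟩ := exists_unit (fun _ : Fin p => (1 : F)) 1 (fun _ => one_ne_zero)
  obtain ⟨X', hX⟩ := exists_unit d 0 (fun i => ne_zero_of_pow (hd i))
  refine ⟨V, C', X', ⟨_, _, hC, fun _ => one_pow _⟩, hX, hC, ?_⟩
  rw [mul_assoc, eq_inv_mul_iff_mul_eq]
  apply Units.ext
  rw [Units.val_mul, Units.val_mul, hC, hX]
  ext i j
  rw [Matrix.mul_apply, Finset.sum_eq_single j, Matrix.mul_apply, Finset.sum_eq_single (i + 1)]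
  · show (Matrix.vandermonde d).transpose i j * mon d 0 j j = mon (fun _ => 1) 1 i (i + 1) * (Matrix.vandermonde d).transpose (i + 1) j
    simp only [Matrix.transpose_apply, Matrix.vandermonde_apply, mon, add_zero, if_true, one_mul, Fin.val_add, Fin.val_one]
    rw [← pow_succ, Fin.val_one', Nat.mod_eq_of_lt hp.out.one_lt]
    exact pow_eq_pow_mod _ (hd j)
  · intro r _ hr; simp [mon, hr]
  · simp
  · intro r _ hr; simp [mon, Ne.symm hr]
  · simp

end CfsgLib.MonomialSylow
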